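import Cfsg.Agent.Lib.helper3.O73TC.Z.Base
import Cfsg.Agent.Lib.helper3.StemPres

/-! the structure of the base words (generated, helper3) -/

set_option autoImplicit false
set_option maxRecDepth 100000

namespace Cfsg.Agent.Lib.Helper3.O73TC.Z

open Cfsg.Agent.Lib.Helper12.TC Cfsg.Agent.Lib.Helper12.TCG Cfsg.Agent.Lib.Helper3.StemPres

/-- the letters with the two words whose commutator they are -/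
def sData : List (ℕ × List ℕ × List ℕ) :=
  [(0, [4, 7, 4, 4, 7, 4], [0]),
   (2, [4, 7, 4, 4, 7, 4], [2]),
   (4, [0, 3, 0, 0, 3, 0], [4]),
   (6, [0, 3, 0, 0, 3, 0], [6]),
   (8, [0, 3, 0, 0, 3, 0], [8]),
   (10, [0, 3, 0, 0, 3, 0], [10]),
   (12, [4, 7, 4, 4, 7, 4], [12])]

/-- relators of the base group -/
def rels : List (List ℕ) :=
  [[3, 3, 3],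
   [6, 6, 6],
   [9, 9, 9],
   [10, 10, 10],
   [2, 2, 2],
   [0, 0, 0],
   [8, 8, 8],
   [11, 11, 11],
   [4, 4, 4],
   [1, 1, 1],
   [4, 7, 4, 3, 5, 6, 5, 6, 4, 7, 4, 2, 5, 6, 5, 7],
   [3, 9, 2, 8],
   [4, 7, 4, 3, 5, 6, 5, 0, 3, 0, 10, 1, 2, 1, 4, 7, 4, 2, 5, 6, 5, 0, 3, 0, 11, 1, 2, 1],
   [4, 7, 4, 3, 5, 6, 5, 10, 4, 7, 4, 2, 5, 6, 5, 11],
   [4, 7, 4, 3, 5, 6, 5, 2, 4, 7, 4, 2, 5, 6, 5, 3],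
   [4, 7, 4, 3, 5, 6, 5, 0, 4, 7, 4, 2, 5, 6, 5, 1, 7],
   [4, 7, 4, 3, 5, 6, 5, 8, 4, 7, 4, 2, 5, 6, 5, 9],
   [3, 5, 6, 5, 0, 3, 0, 8, 1, 2, 1, 4, 7, 4, 2, 5, 6, 5, 0, 3, 0, 9, 1, 2, 1, 7, 0, 10, 4, 7, 4, 8],
   [4, 7, 4, 3, 11, 2, 10, 5, 6, 5, 2, 4, 9, 0, 3, 0, 10, 1, 2, 1],
   [4, 7, 4, 3, 5, 6, 4, 7, 4, 2, 5, 6, 5, 5, 2],
   [6, 4, 7, 4, 9, 5, 6, 5, 7, 4, 7, 4, 8, 5, 6, 5],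
   [6, 0, 3, 0, 10, 1, 2, 1, 7, 0, 3, 0, 11, 1, 2, 1],
   [6, 10, 7, 11],
   [6, 2, 7, 3, 4, 7, 4, 2, 5, 6, 5],
   [6, 0, 7, 1],
   [6, 8, 7, 9, 4, 7, 4, 3, 5, 6, 5, 3, 0, 3, 0, 11, 1, 2, 1, 4, 7, 4, 8, 5, 6, 5],
   [6, 0, 3, 0, 8, 1, 2, 1, 7, 0, 3, 0, 9, 1, 2, 1],
   [6, 4, 7, 4, 11, 5, 6, 5, 7, 4, 7, 4, 10, 5, 6, 5, 1, 4, 7, 4, 0, 5, 6, 5, 0, 3, 0, 8, 1, 2, 1, 10],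
   [6, 4, 7, 4, 1, 5, 6, 5, 7, 4, 7, 4, 0, 5, 6, 5, 0],
   [4, 7, 4, 9, 5, 6, 5, 0, 3, 0, 10, 1, 2, 1, 4, 7, 4, 8, 5, 6, 5, 0, 3, 0, 11, 1, 2, 1],
   [4, 7, 4, 9, 5, 6, 5, 10, 4, 7, 4, 8, 5, 6, 5, 11],
   [4, 7, 4, 9, 5, 6, 5, 2, 4, 7, 4, 8, 5, 6, 5, 3],
   [4, 7, 4, 9, 5, 6, 5, 0, 4, 7, 4, 8, 5, 6, 5, 1],
   [4, 7, 4, 9, 5, 6, 5, 8, 4, 7, 4, 8, 5, 6, 5, 9, 0, 3, 0, 11, 1, 2, 1],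
   [4, 7, 4, 9, 5, 6, 5, 0, 3, 0, 8, 1, 2, 1, 4, 7, 4, 8, 5, 6, 5, 0, 3, 0, 9, 1, 2, 1, 10],
   [4, 7, 4, 9, 5, 6, 4, 7, 4, 8, 5, 6, 5, 5, 2, 4, 7, 4, 2, 5, 6, 5, 0, 3, 0, 11, 1, 2, 1, 8],
   [4, 7, 4, 9, 1, 8, 0, 5, 6, 5, 1, 6, 10, 0, 3, 0, 8, 1, 2, 1],
   [0, 3, 0, 10, 1, 2, 1, 10, 0, 3, 0, 11, 1, 2, 1, 11, 4, 7, 4, 8, 5, 6, 5],
   [0, 3, 0, 10, 1, 2, 1, 2, 0, 3, 0, 11, 1, 2, 1, 3],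
   [0, 3, 0, 10, 1, 2, 0, 3, 0, 11, 1, 2, 1, 1, 7, 4, 7, 4, 2, 9, 5, 6, 5, 11],
   [0, 3, 0, 10, 1, 2, 1, 8, 0, 3, 0, 11, 1, 2, 1, 9],
   [0, 3, 0, 10, 1, 2, 1, 4, 7, 4, 11, 5, 6, 5, 0, 3, 0, 11, 1, 2, 1, 4, 7, 4, 10, 5, 6, 5, 8],
   [0, 3, 0, 10, 1, 2, 1, 4, 0, 3, 0, 11, 1, 2, 1, 5],
   [0, 3, 0, 10, 1, 2, 1, 4, 7, 4, 1, 5, 6, 5, 0, 3, 0, 11, 1, 2, 1, 4, 7, 4, 0, 5, 6, 2, 9, 4, 7, 4, 10, 5, 6, 5],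
   [10, 2, 11, 3, 4, 7, 4, 3, 5, 6, 5, 6, 4, 7, 4, 8, 5, 6, 5, 0, 3, 0, 11, 1, 2, 1],
   [10, 0, 11, 1],
   [10, 0, 3, 0, 8, 1, 2, 1, 11, 0, 3, 0, 9, 1, 2, 1],
   [10, 4, 7, 4, 11, 5, 6, 5, 11, 4, 7, 4, 10, 5, 6, 5, 0, 3, 0, 9, 1, 2, 1],
   [10, 4, 11, 7, 4, 0, 5, 6, 5, 3, 0, 8, 1, 2, 1, 4, 7, 4, 10, 5, 6, 5],
   [10, 4, 7, 4, 1, 5, 6, 5, 11, 4, 7, 4, 0, 5, 6, 5],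
   [2, 8, 3, 9],
   [2, 0, 3, 0, 8, 1, 2, 1, 3, 0, 3, 0, 9, 1, 2, 1, 4, 4, 7, 4, 0, 10, 5, 6, 5, 9],
   [2, 4, 7, 4, 11, 5, 6, 5, 3, 4, 7, 4, 10, 5, 6, 5],
   [2, 4, 3, 5],
   [2, 4, 7, 4, 1, 5, 6, 5, 3, 4, 7, 4, 0, 5, 6, 5, 5],
   [8, 1, 9, 4, 7, 4, 0, 5, 6, 4, 7, 4, 11, 5, 6, 5, 0, 3, 0, 9, 1, 2],
   [0, 3, 0, 8, 1, 2, 1, 3, 0, 9, 1, 2],
   [0, 4, 7, 4, 11, 5, 6, 5, 1, 4, 7, 4, 10, 5, 6, 5],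
   [0, 4, 1, 7, 4, 0, 5, 6, 5],
   [0, 4, 7, 4, 1, 5, 6, 5, 1, 4, 7, 4, 0, 5, 6, 5],
   [8, 0, 3, 0, 8, 1, 2, 1, 9, 0, 3, 0, 9, 1, 2, 1, 4, 7, 4, 10, 5, 6, 5],
   [8, 4, 7, 4, 11, 5, 6, 5, 9, 4, 7, 4, 10, 5, 6, 5],
   [8, 4, 9, 5],
   [8, 4, 7, 4, 1, 5, 6, 5, 9, 4, 7, 4, 0, 5, 6, 5],
   [0, 3, 0, 8, 1, 2, 1, 4, 7, 4, 11, 5, 6, 5, 0, 3, 0, 9, 1, 2, 1, 4, 7, 4, 10, 5, 6, 5],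
   [0, 3, 0, 8, 1, 2, 1, 4, 0, 3, 0, 9, 1, 2, 1, 5],
   [0, 3, 0, 8, 1, 2, 1, 4, 7, 4, 1, 5, 6, 5, 0, 3, 0, 9, 1, 2, 1, 4, 7, 4, 0, 5, 6, 5],
   [7, 4, 11, 5, 6, 4, 7, 4, 10, 5, 6, 5],
   [11, 1, 10, 0],
   [4, 7, 4, 1, 5, 6, 5, 7, 4, 0, 5, 6],
   [0, 3, 0, 0, 3, 0, 0, 1, 2, 1, 1, 2, 1, 1],
   [0, 3, 0, 0, 3, 0, 4, 7, 4, 1, 5, 6, 5, 1, 2, 1, 1, 2, 1, 4, 7, 4, 1, 5, 6, 5],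
   [4, 7, 4, 4, 7, 4, 4, 5, 6, 5, 5, 6, 5, 5],
   [4, 7, 4, 4, 7, 4, 4, 7, 4, 1, 5, 6, 5, 5, 6, 5, 5, 6, 5, 4, 7, 4, 1, 5, 6, 5],
   [0, 4, 1, 5, 4, 7, 4, 0, 5, 6, 5],
   [4, 4, 7, 4, 1, 5, 6, 5, 5, 4, 7, 4, 0, 5, 6, 5],
   [0, 12, 1, 13],
   [2, 12, 3, 13],
   [1, 12, 0, 13],
   [5, 12, 4, 13],
   [4, 7, 4, 12, 5, 6, 5, 7, 4, 13, 5, 6, 12],
   [4, 7, 4, 13, 5, 6, 5, 11, 4, 7, 4, 12, 5, 6, 5, 10],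
   [0, 3, 0, 8, 1, 2, 1, 8, 11, 8, 13, 9, 10, 9, 5, 8, 11, 8, 12, 9, 10, 9, 0, 3, 0, 9, 1, 2, 1, 4],
   [4, 7, 4, 13, 5, 6, 5, 11, 12, 10, 4, 7, 4, 12, 5, 6, 5, 13, 0, 0, 3, 0, 8, 1, 2, 1, 8, 11, 8, 13, 9, 10, 9],
   [8, 11, 8, 13, 9, 10, 8, 11, 8, 4, 7, 4, 13, 5, 6, 5, 12, 4, 7, 4, 12, 5, 6, 5, 9, 10, 9, 9, 4, 4, 7, 4, 11, 5, 6, 5, 12],
   [0, 3, 0, 4, 7, 4, 13, 5, 6, 5, 1, 2, 1, 4, 7, 4, 12, 5, 6, 5, 0, 3, 0, 4, 7, 4, 12, 5, 6, 5, 1, 2, 1, 4, 7, 4, 13, 5, 6, 5],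
   [2, 6, 13, 9, 10, 12, 2, 6, 13, 9, 10, 12, 2, 6, 13, 9, 10, 12]]

/-- the positive letters -/
def posL : List ℕ := [0, 2, 4, 6, 8, 10, 12]

theorem baseL_eq : baseL = baseOf cIV 14 sData rels posL := by decide +kernel

theorem hSl : ∀ p ∈ sData, p.1 < 14 ∧ (∀ t ∈ p.2.1, t < 14) ∧ (∀ t ∈ p.2.2, t < 14) := by decide +kernel

theorem hRl : ∀ r ∈ rels, ∀ t ∈ r, t < 14 := by decide +kernel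

theorem hPl : ∀ x ∈ posL, x < 14 := by decide

theorem hpos : ∀ s < 14, s ∈ posL ∨ invS cIV s ∈ posL := by decide

theorem hne : ∀ s < 14, invS cIV s ≠ s := by decide

theorem hpairs : ∀ s < 14, [s, invS cIV s] ∈ baseL := by decide +kernel

end Cfsg.Agent.Lib.Helper3.O73TC.Z
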